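import Mathlib
import Cfsg.Agent.Lib.Helper95.BRA.Defs

/-!
# BRA package [B1] (S4484): the key inequality `‖P w‖² ‖w‖² ≤ |⟨w, A w⟩|²` with its equality case
-/

set_option autoImplicit false

open scoped Matrix ComplexConjugate

namespace Cfsg.Agent.Lib.Helper76.BRA

open Cfsg Cfsg.Agent.Lib.Helper74.Jordan Cfsg.Agent.Lib.Helper95.BRA

lemma nsq_nonneg76 {n : ℕ} (w : Fin n → ℂ) : 0 ≤ nsq w :=
  Finset.sum_nonneg fun _ _ => Complex.normSq_nonneg _

lemma nsq_eq_zero76 {n : ℕ} {w : Fin n → ℂ} (h : nsq w = 0) : w = 0 := by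
  funext i
  have := (Finset.sum_eq_zero_iff_of_nonneg
    (fun i _ => Complex.normSq_nonneg (w i))).1 h i (Finset.mem_univ i)
  exact Complex.normSq_eq_zero.1 this

lemma star_dot_self76 {n : ℕ} (w : Fin n → ℂ) : star w ⬝ᵥ w = ((nsq w : ℝ) : ℂ) := by
  unfold nsq
  rw [Complex.ofReal_sum]
  refine Finset.sum_congr rfl fun i _ => ?_
  rw [Complex.normSq_eq_conj_mul_self]; rfl

theorem pkgB1 : PkgB1 := by
  intro n A N j₀ hN hAN hAu hS w
  obtain ⟨hj₀, hP0, hsh⟩ := hS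
  have ha0 : ∀ j, 0 ≤ nsq (proj A N j *ᵥ w) := fun j => nsq_nonneg76 _
  -- (1)
  have h1 : ∀ j < N, star w ⬝ᵥ (proj A N j *ᵥ w) = ((nsq (proj A N j *ᵥ w) : ℝ) : ℂ) := by
    intro j hj
    have hh : proj A N j = (proj A N j)ᴴ * proj A N j := by
      rw [proj_herm hN hAN hAu, proj_idem hN hAN hj]
    rw [← star_dot_self76, Matrix.star_mulVec, ← Matrix.dotProduct_mulVec, Matrix.mulVec_mulVec,
      ← hh]
  -- (2)
  have h2 : (∑ j ∈ Finset.range N, nsq (proj A N j *ᵥ w)) = nsq w := by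
    apply Complex.ofReal_injective
    rw [Complex.ofReal_sum, ← star_dot_self76]
    have : star w ⬝ᵥ w = star w ⬝ᵥ ((∑ j ∈ Finset.range N, proj A N j) *ᵥ w) := by
      rw [sum_proj hN, Matrix.one_mulVec]
    rw [this, Matrix.sum_mulVec, dotProduct_sum]
    exact Finset.sum_congr rfl fun j hj => (h1 j (Finset.mem_range.1 hj)).symm
  -- (3)
  have h3 : star w ⬝ᵥ (A *ᵥ w)
      = ∑ j ∈ Finset.range N, ev N j * ((nsq (proj A N j *ᵥ w) : ℝ) : ℂ) := by
    have hA := self_eq_sum hN hAN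
    calc star w ⬝ᵥ (A *ᵥ w)
        = star w ⬝ᵥ ((∑ j ∈ Finset.range N, ev N j • proj A N j) *ᵥ w) := by rw [← hA]
      _ = _ := by
        rw [Matrix.sum_mulVec, dotProduct_sum]
        refine Finset.sum_congr rfl fun j hj => ?_
        rw [Matrix.smul_mulVec, dotProduct_smul, h1 j (Finset.mem_range.1 hj), smul_eq_mul]
  have hεn : Complex.normSq (ev N j₀) = 1 := normSq_ev hN j₀
  have h4 : (star w ⬝ᵥ (A *ᵥ w) * conj (ev N j₀)).re
      = ∑ j ∈ Finset.range N, (ev N j * conj (ev N j₀)).re * nsq (proj A N j *ᵥ w) := by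
    rw [h3, Finset.sum_mul, Complex.re_sum]
    refine Finset.sum_congr rfl fun j _ => ?_
    rw [mul_right_comm, Complex.re_mul_ofReal]
  have h5 : ∀ j ∈ Finset.range N,
      (nsq (proj A N j *ᵥ w) / 2 + (if j = j₀ then nsq (proj A N j *ᵥ w) / 2 else 0))
        ≤ (ev N j * conj (ev N j₀)).re * nsq (proj A N j *ᵥ w) := by
    intro j hj
    by_cases hjj : j = j₀
    · rw [if_pos hjj, hjj]
      have : (ev N j₀ * conj (ev N j₀)).re = 1 := by
        rw [Complex.mul_conj, Complex.ofReal_re]; exact hεn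
      rw [this, one_mul]
      linarith
    · rw [if_neg hjj]
      by_cases hP : proj A N j = 0
      · have : nsq (proj A N j *ᵥ w) = 0 := by
          rw [hP, Matrix.zero_mulVec]; simp [nsq]
        rw [this]; simp
      · have h := hsh j (Finset.mem_range.1 hj) hP
        have h' := ha0 j
        nlinarith
  have h6 : (nsq (proj A N j₀ *ᵥ w) + nsq w) / 2 ≤ (star w ⬝ᵥ (A *ᵥ w) * conj (ev N j₀)).re := by
    rw [h4]
    calc (nsq (proj A N j₀ *ᵥ w) + nsq w) / 2
        = ∑ j ∈ Finset.range N,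
            (nsq (proj A N j *ᵥ w) / 2 + (if j = j₀ then nsq (proj A N j *ᵥ w) / 2 else 0)) := by
          rw [Finset.sum_add_distrib, Finset.sum_ite_eq', if_pos (Finset.mem_range.2 hj₀),
            ← Finset.sum_div, h2]
          ring
      _ ≤ _ := Finset.sum_le_sum h5
  have h7 : Complex.normSq (star w ⬝ᵥ (A *ᵥ w))
      = Complex.normSq (star w ⬝ᵥ (A *ᵥ w) * conj (ev N j₀)) := by
    rw [Complex.normSq_mul, Complex.normSq_conj, hεn, mul_one]
  have h8 : ((star w ⬝ᵥ (A *ᵥ w) * conj (ev N j₀)).re) ^ 2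
      ≤ Complex.normSq (star w ⬝ᵥ (A *ᵥ w)) := by
    rw [h7, Complex.normSq_apply]
    nlinarith [mul_self_nonneg (star w ⬝ᵥ (A *ᵥ w) * conj (ev N j₀)).im]
  have hS0 : 0 ≤ nsq w := nsq_nonneg76 w
  have haj : 0 ≤ nsq (proj A N j₀ *ᵥ w) := ha0 j₀
  generalize hr : (star w ⬝ᵥ (A *ᵥ w) * conj (ev N j₀)).re = r at h6 h8
  generalize hZ : Complex.normSq (star w ⬝ᵥ (A *ᵥ w)) = Z at h8
  refine ⟨?_, ?_, ?_⟩
  · nlinarith [sq_nonneg (nsq (proj A N j₀ *ᵥ w) - nsq w)]
  · intro heq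
    have hE : nsq (proj A N j₀ *ᵥ w) = nsq w := by
      have h9 : (nsq (proj A N j₀ *ᵥ w) - nsq w) ^ 2 ≤ 0 := by nlinarith
      have h10 : nsq (proj A N j₀ *ᵥ w) - nsq w = 0 := by
        have := sq_nonneg (nsq (proj A N j₀ *ᵥ w) - nsq w)
        exact pow_eq_zero_iff (two_ne_zero) |>.1 (le_antisymm h9 this)
      linarith
    have h11 : ∑ j ∈ (Finset.range N).erase j₀, nsq (proj A N j *ᵥ w) = 0 := by
      have := Finset.add_sum_erase (Finset.range N) (fun j => nsq (proj A N j *ᵥ w))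
        (Finset.mem_range.2 hj₀)
      linarith
    have h12 : ∀ j ∈ (Finset.range N).erase j₀, proj A N j *ᵥ w = 0 := by
      intro j hj
      exact nsq_eq_zero76 ((Finset.sum_eq_zero_iff_of_nonneg (fun j _ => ha0 j)).1 h11 j hj)
    have h13 : w = ∑ j ∈ Finset.range N, proj A N j *ᵥ w := by
      rw [← Matrix.sum_mulVec, sum_proj hN, Matrix.one_mulVec]
    have h14 := Finset.add_sum_erase (Finset.range N) (fun j => proj A N j *ᵥ w)
      (Finset.mem_range.2 hj₀)
    rw [Finset.sum_eq_zero h12, add_zero] at h14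
    rw [h14]; exact h13.symm
  · intro hw hz0
    have hpos : 0 < nsq w := by
      rcases hS0.lt_or_eq with h | h
      · exact h
      · exact absurd (nsq_eq_zero76 h.symm) hw
    rw [hz0, zero_mul, Complex.zero_re] at hr
    linarith

end Cfsg.Agent.Lib.Helper76.BRA
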